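import Mathlib

set_option autoImplicit false

/-! Lang's theorem for semilinear bijections over algebraically closed fields. -/

namespace Cfsg.Agent.Lib.Lang

open Polynomial

variable {K V : Type*} [Field K] [IsAlgClosed K] (p : ℕ) [Fact p.Prime] [CharP K p] {f : ℕ}

theorem q_ne_zero : p ^ f ≠ 0 := pow_ne_zero _ (Fact.out : p.Prime).ne_zero

theorem two_le_q (hf : 1 ≤ f) : 2 ≤ p ^ f :=
  le_trans (Fact.out : p.Prime).two_le (Nat.le_self_pow (by omega) p)

omit [IsAlgClosed K] in
theorem cast_q (hf : 1 ≤ f) : ((p ^ f : ℕ) : K) = 0 := by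
  rw [Nat.cast_pow, CharP.cast_eq_zero, zero_pow (by omega)]

omit [Fact p.Prime] [CharP K p] in
/-- The polynomials giving the coefficients of a fixed vector in a cyclic basis. -/
noncomputable def coeffPoly (q : ℕ) (a : ℕ → K) : ℕ → K[X]
  | 0 => C (a 0) * X
  | i + 1 => coeffPoly q a i ^ q + C (a (i + 1)) * X

/-- A non-zero parameter for which the fixed-vector coefficients close up. -/
theorem exists_param (hf : 1 ≤ f) (a : ℕ → K) (l : ℕ) (ha : ∃ i ≤ l, a i ≠ 0) :
    ∃ T : K, T ≠ 0 ∧ (coeffPoly (p ^ f) a l).eval T ^ (p ^ f) = T := by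
  classical
  have hq0 := q_ne_zero p (f := f)
  have hP : ∀ i, coeffPoly (p ^ f) a i = 0 → ∀ j ≤ i, a j = 0 := by
    intro i
    induction i with
    | zero =>
      intro h j hj
      obtain rfl : j = 0 := by omega
      simpa [coeffPoly] using congrArg (fun P => P.coeff 1) h
    | succ i ih =>
      intro h j hj
      have hd := congrArg Polynomial.derivative h
      simp only [coeffPoly, derivative_add, derivative_pow, derivative_C_mul, derivative_X, mul_one,
        cast_q p hf, map_zero, zero_mul, zero_add, derivative_zero, C_eq_zero] at hd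
      rcases Nat.lt_or_ge j (i + 1) with hj' | hj'
      · refine ih ?_ j (by omega)
        simp only [coeffPoly, hd, map_zero, zero_mul, add_zero] at h
        exact eq_zero_of_pow_eq_zero h
      · obtain rfl : j = i + 1 := by omega
        exact hd
  have h0 : ∀ i, (coeffPoly (p ^ f) a i).eval 0 = 0 := by
    intro i
    induction i with
    | zero => simp [coeffPoly]
    | succ i ih => simp [coeffPoly, ih, zero_pow hq0]
  set P := coeffPoly (p ^ f) a l
  have hPne : P ≠ 0 := fun h => by obtain ⟨i, hi, hne⟩ := ha; exact hne (hP l h i hi)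
  have hdeg : 1 ≤ P.natDegree := by
    by_contra hlt
    have hC := eq_C_of_natDegree_eq_zero (show P.natDegree = 0 by omega)
    have := h0 l
    rw [show coeffPoly (p ^ f) a l = P from rfl, hC, eval_C] at this
    exact hPne (by rw [hC, this, map_zero])
  set G := P ^ (p ^ f) - X
  have hGd : 2 ≤ G.natDegree := by
    have h1 : (P ^ (p ^ f)).natDegree = p ^ f * P.natDegree := natDegree_pow _ _
    have h2 : 2 ≤ p ^ f * P.natDegree := le_trans (two_le_q p hf) (Nat.le_mul_of_pos_right _ hdeg)
    rw [natDegree_sub_eq_left_of_natDegree_lt (by rw [natDegree_X, h1]; omega), h1]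
    exact h2
  have hsep : G.Separable := by
    refine separable_def' _ |>.2 ⟨0, -1, ?_⟩
    simp [G, derivative_pow, cast_q p hf]
  have hcard : G.roots.toFinset.card = G.natDegree := by
    rw [Multiset.toFinset_card_of_nodup (nodup_roots hsep), IsAlgClosed.card_roots_eq_natDegree]
  obtain ⟨T, hT, hT0⟩ := Finset.exists_mem_ne (by omega : 1 < G.roots.toFinset.card) (0 : K)
  refine ⟨T, hT0, ?_⟩
  have : G.IsRoot T := isRoot_of_mem_roots (Multiset.mem_toFinset.1 hT)
  simp only [G, IsRoot.def, eval_sub, eval_pow, eval_X] at this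
  exact sub_eq_zero.1 this

variable [AddCommGroup V] [Module K V]

/-- The fixed vectors of a bijective `q`-semilinear map span the space. -/
theorem span_fixed_eq_top [FiniteDimensional K V] (hf : 1 ≤ f) (φ : V →+ V) (hinj : Function.Injective φ)
    (hsemi : ∀ (c : K) v, φ (c • v) = c ^ (p ^ f) • φ v) :
    Submodule.span K {v | φ v = v} = ⊤ := by
  classical
  set q := p ^ f
  have hq0 : q ≠ 0 := q_ne_zero p
  set W := Submodule.span K {v | φ v = v}
  have hW : ∀ w ∈ W, φ w ∈ W := by
    intro w hw
    induction hw using Submodule.span_induction with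
    | mem x hx => rw [show φ x = x from hx]; exact Submodule.subset_span hx
    | zero => rw [map_zero]; exact W.zero_mem
    | add x y _ _ hx hy => rw [map_add]; exact W.add_mem hx hy
    | smul c x _ hx => rw [hsemi]; exact W.smul_mem _ hx
  have hW' : ∀ w ∈ W, ∃ w' ∈ W, φ w' = w := by
    intro w hw
    induction hw using Submodule.span_induction with
    | mem x hx => exact ⟨x, Submodule.subset_span hx, hx⟩
    | zero => exact ⟨0, W.zero_mem, map_zero _⟩
    | add x y _ _ hx hy =>
      obtain ⟨x', hx', hx''⟩ := hx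
      obtain ⟨y', hy', hy''⟩ := hy
      exact ⟨x' + y', W.add_mem hx' hy', by rw [map_add, hx'', hy'']⟩
    | smul c x _ hx =>
      obtain ⟨x', hx', hx''⟩ := hx
      obtain ⟨r, hr⟩ := IsAlgClosed.exists_pow_nat_eq c (Nat.pos_of_ne_zero hq0)
      exact ⟨r • x', W.smul_mem _ hx', by rw [hsemi, hr, hx'']⟩
  have hAS : ∀ w ∈ W, ∃ c ∈ W, φ c - c = w := by
    intro w hw
    induction hw using Submodule.span_induction with
    | mem x hx =>
      obtain ⟨t, ht⟩ := IsAlgClosed.exists_root (X ^ q - X - C 1 : K[X]) (by
        have h2 : 2 ≤ q := two_le_q p hf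
        have : (X ^ q - X - C 1 : K[X]).natDegree = q := by
          rw [natDegree_sub_C, natDegree_sub_eq_left_of_natDegree_lt] <;> simp; omega
        intro hd
        have := natDegree_eq_zero_iff_degree_le_zero.2 hd.le
        omega)
      simp only [IsRoot.def, eval_sub, eval_pow, eval_X, eval_C] at ht
      refine ⟨t • x, W.smul_mem _ (Submodule.subset_span hx), ?_⟩
      rw [hsemi, show φ x = x from hx, ← sub_smul, show t ^ q - t = 1 by linear_combination ht, one_smul]
    | zero => exact ⟨0, W.zero_mem, by simp⟩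
    | add x y _ _ hx hy =>
      obtain ⟨x', hx', hx''⟩ := hx
      obtain ⟨y', hy', hy''⟩ := hy
      exact ⟨x' + y', W.add_mem hx' hy', by rw [map_add, ← hx'', ← hy'']; abel⟩
    | smul c x hxW hx =>
      -- solve on each basis vector: reduce to scaling inside the span
      suffices ∀ y ∈ W, ∀ d : K, ∃ z ∈ W, φ z - z = d • y by exact this x hxW c
      intro y hy
      induction hy using Submodule.span_induction with
      | mem y hy =>
        intro d
        obtain ⟨t, ht⟩ := IsAlgClosed.exists_root (X ^ q - X - C d : K[X]) (by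
          have h2 : 2 ≤ q := two_le_q p hf
          have : (X ^ q - X - C d : K[X]).natDegree = q := by
            rw [natDegree_sub_C, natDegree_sub_eq_left_of_natDegree_lt] <;> simp; omega
          intro hd
          have := natDegree_eq_zero_iff_degree_le_zero.2 hd.le
          omega)
        simp only [IsRoot.def, eval_sub, eval_pow, eval_X, eval_C] at ht
        refine ⟨t • y, W.smul_mem _ (Submodule.subset_span hy), ?_⟩
        rw [hsemi, show φ y = y from hy, ← sub_smul, show t ^ q - t = d by linear_combination ht]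
      | zero => exact fun d => ⟨0, W.zero_mem, by simp⟩
      | add y z _ _ hy hz =>
        intro d
        obtain ⟨y', hy', hy''⟩ := hy d
        obtain ⟨z', hz', hz''⟩ := hz d
        exact ⟨y' + z', W.add_mem hy' hz', by rw [map_add, smul_add, ← hy'', ← hz'']; abel⟩
      | smul c y _ hy => intro d; rw [smul_smul]; exact hy (d * c)
  by_contra hne
  obtain ⟨v, -, hv⟩ := SetLike.exists_of_lt (lt_top_iff_ne_top.2 (show W ≠ ⊤ from hne))
  set S : ℕ → Submodule K V := fun k => W ⊔ Submodule.span K ((fun i => φ^[i] v) '' Set.Iio k)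
  have hmono : ∀ k, S k ≤ S (k + 1) := fun k =>
    sup_le_sup_left (Submodule.span_mono (Set.image_mono (Set.Iio_subset_Iio (by omega)))) _
  have hex : ∃ k, φ^[k] v ∈ S k := by
    by_contra hc
    push Not at hc
    have : ∀ k, k ≤ Module.finrank K (S k) := by
      intro k
      induction k with
      | zero => exact Nat.zero_le _
      | succ k ih =>
        have hlt : S k < S (k + 1) := lt_of_le_not_ge (hmono k) fun hle => hc k (hle
          (Submodule.mem_sup_right (Submodule.subset_span ⟨k, by simp, rfl⟩)))
        have := Submodule.finrank_lt_finrank_of_lt hlt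
        omega
    have h1 := this (Module.finrank K V + 1)
    have h2 := Submodule.finrank_le (S (Module.finrank K V + 1))
    omega
  obtain ⟨k, hkS, hmin⟩ : ∃ k, φ^[k] v ∈ S k ∧ ∀ j < k, φ^[j] v ∉ S j :=
    ⟨Nat.find hex, Nat.find_spec hex, fun j hj => Nat.find_min hex hj⟩
  obtain ⟨l, rfl⟩ : ∃ l, k = l + 1 := by
    rcases k with _ | l
    · refine absurd ?_ hv
      simpa [S] using hkS
    · exact ⟨l, rfl⟩
  obtain ⟨w, hw, z, hz, hwz⟩ := Submodule.mem_sup.1 hkS
  have hIio : Set.Iio (l + 1) = ↑(Finset.range (l + 1)) := by ext; simp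
  rw [hIio, ← Finset.coe_image, Submodule.mem_span_finset] at hz
  obtain ⟨r, -, hr⟩ := hz
  have hinjOn : Set.InjOn (fun i => φ^[i] v) ↑(Finset.range (l + 1)) := by
    intro i hi j hj hij
    simp only [Finset.coe_range, Set.mem_Iio] at hi hj
    by_contra hne'
    rcases Nat.lt_or_ge i j with hlt | hge
    · exact hmin j hj (Submodule.mem_sup_right (Submodule.subset_span ⟨i, hlt, hij⟩))
    · exact hmin i hi (Submodule.mem_sup_right (Submodule.subset_span ⟨j, by simp; omega, hij.symm⟩))
  rw [Finset.sum_image hinjOn] at hr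
  set a : ℕ → K := fun i => r (φ^[i] v)
  have hne0 : ∃ i ≤ l, a i ≠ 0 := by
    by_contra hc
    push Not at hc
    have h0 : z = 0 := by
      rw [← hr]
      exact Finset.sum_eq_zero fun i hi => by
        rw [show r (φ^[i] v) = 0 from hc i (by simp at hi; omega), zero_smul]
    obtain ⟨w', hw', hw''⟩ := hW' w hw
    refine hmin l (by omega) (Submodule.mem_sup_left ?_)
    have : φ (φ^[l] v) = φ w' := by
      rw [hw'']
      exact (Function.iterate_succ_apply' _ _ _).symm.trans (by rw [← hwz, h0, add_zero])
    rwa [hinj this]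
  obtain ⟨T, hT0, hT⟩ := exists_param p hf a l hne0
  set c : ℕ → K := fun i => (coeffPoly q a i).eval T
  have hc0 : c 0 = a 0 * T := by simp [c, coeffPoly]
  have hcs : ∀ i, c (i + 1) = c i ^ q + a (i + 1) * T := fun i => by simp [c, coeffPoly]
  have hcl : c l ^ q = T := hT
  set u := ∑ i ∈ Finset.range (l + 1), c i • φ^[i] v with hu
  have hφu : φ u - u ∈ W := by
    have h1 : φ u = (∑ i ∈ Finset.range l, c i ^ q • φ^[i + 1] v) + T • φ^[l + 1] v := by
      rw [hu, map_sum, Finset.sum_range_succ]
      simp only [hsemi, ← Function.iterate_succ_apply' φ, hcl]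
    have h2 : u = (∑ i ∈ Finset.range l, c i ^ q • φ^[i + 1] v) + T • z := by
      rw [← hr, Finset.smul_sum, Finset.sum_range_succ', hu, Finset.sum_range_succ',
        ← add_assoc, ← Finset.sum_add_distrib]
      refine congrArg₂ (· + ·) (Finset.sum_congr rfl fun i _ => ?_) ?_
      · rw [hcs, add_smul, smul_smul, mul_comm (a (i + 1))]
      · rw [hc0, smul_smul, mul_comm (a 0)]
    have h3 : φ u - u = T • w := by
      rw [h1, h2, ← hwz, smul_add]; abel
    rw [h3]; exact W.smul_mem _ hw
  obtain ⟨d, hd, hd'⟩ := hAS _ hφu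
  have hfix : u - d ∈ W := by
    refine Submodule.subset_span ?_
    show φ (u - d) = u - d
    rw [map_sub]
    linear_combination (norm := module) -hd'
  have huW : u ∈ W := by simpa using W.add_mem hfix hd
  have hclne : c l ≠ 0 := fun h => hT0 (by rw [← hcl, h, zero_pow hq0])
  refine hmin l (by omega) ?_
  have hl : c l • φ^[l] v = u - ∑ i ∈ Finset.range l, c i • φ^[i] v := by
    rw [hu, Finset.sum_range_succ]; abel
  have hmem : c l • φ^[l] v ∈ S l := by
    rw [hl]
    exact sub_mem (Submodule.mem_sup_left huW) (Submodule.mem_sup_right (sum_mem fun i hi =>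
      Submodule.smul_mem _ _ (Submodule.subset_span ⟨i, by simpa using hi, rfl⟩)))
  exact ((S l).smul_mem_iff hclne).1 hmem

end Cfsg.Agent.Lib.Lang
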